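import Cfsg.Agent.H689.Ccp.GForm
import Cfsg.Agent.ChevalleyStructure.G2N
import Cfsg.Agent.H441.GS.Chain
import Cfsg.Agent.H808.Gs.Root
import Cfsg.Agent.H542.Pi.G2Cases
import Cfsg.Agent.FastGrp
import Cfsg.Agent.Prune
set_option linter.all false
prune_inst 0x7f00000000000000000000000000000000000000000000000000000000000000000000000000000000000000000000000000000000000000000000000000000000000000000000000000000000000000003fffffffffffffffffffffffffffbeffbdffffffff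
open scoped Cfsg.Agent.FastGrp

-- part: H929/Gs/G2Gen
section
/-!
# `G₂(3^f)`: six conjugates of a type-swapping automorphism generate (helper929, S4327)

`a` an automorphism of `G₂(F)`, `F` finite of characteristic three, which maps the root group of `r` onto the root
group of `nf r = -(r under the exchange of long and short roots)`:

* `mem_all` : a subgroup `H`, invariant under `a`, containing `u a(u)⁻¹` for five explicit elements `u`, is everything;
* `reach_six` : `Reach a 6 ⊤`.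
-/

set_option autoImplicit false
set_option maxRecDepth 100000

namespace Cfsg.Agent.H929.Gs.G2

open Subgroup Cfsg Cfsg.Lie Cfsg.Agent.ChevalleyStructure.Elts Cfsg.Agent.ChevalleyStructure.G2Sym
open Cfsg.Agent.ChevalleyStructure.G2N (nW W E tv cst evP_cst evP_tv E_eq)
open Cfsg.Agent.H689.Ccp (GG2 X X_add X_zero X_neg hD comm_3_1)
open Cfsg.Agent.H915.Gs

universe u

variable {F : Type u} [Field F]

/-! ### Words -/

/-- the product of a word -/
def wd (w : List (ℕ × F)) : GG2 F := (w.map fun p => X p.1 p.2).prod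

theorem coe_wd (w : List (ℕ × F)) :
    (((wd w : GG2 F) : GL chevG2.Idx F) : Matrix chevG2.Idx chevG2.Idx F) = chevG2.wordMat F w := by
  induction w with
  | nil => rfl
  | cons p w ih =>
    rw [wordMat_cons, ← ih]
    rfl

theorem wd_eq {n : ℤ} (hn : (n : F) = 0) (ρ : ℕ → F) (w w' : List (ℕ × _root_.Cfsg.Agent.ChevalleyStructure.G2Sym.Poly)) (h : chk n w w' = true) :
    wd (w.map fun l => (l.1, evP ρ l.2)) = wd (w'.map fun l => (l.1, evP ρ l.2)) :=
  Subtype.ext (Units.ext (by rw [coe_wd, coe_wd]; exact word_eq hn ρ w w' h))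

/-- the constant, the first and the second variable -/
def c0 (k : ℤ) : _root_.Cfsg.Agent.ChevalleyStructure.G2Sym.Poly := [([], k)]
def va (k : ℤ) : _root_.Cfsg.Agent.ChevalleyStructure.G2Sym.Poly := [([1], k)]
def vb (k : ℤ) : _root_.Cfsg.Agent.ChevalleyStructure.G2Sym.Poly := [([0, 1], k)]
def vc (k : ℤ) : _root_.Cfsg.Agent.ChevalleyStructure.G2Sym.Poly := [([0, 0, 1], k)]
def vd (k : ℤ) : _root_.Cfsg.Agent.ChevalleyStructure.G2Sym.Poly := [([0, 0, 0, 1], k)]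

theorem chk_n : chk 3 [(10, c0 1), (1, c0 1), (10, c0 (-1)), (1, c0 (-1))] [(10, c0 (-1)), (1, c0 1), (10, c0 (-1))] =
    true := by decide +kernel

theorem chk_conj : ∀ s : Fin 12, chk 0 (nW 10 ++ [(s.val, tv 1)]) ((W 10 s.val, tv (E 10 s.val)) :: nW 10) = true := by
  decide +kernel

theorem chk_v : chk 3 [(7, va 1), (5, vb 1), (9, vc 1), (11, vd 1)]
    [(10, [([0, 1, 0, 1], 1)]), (9, vc 1), (11, vd 1), (7, va 1), (5, vb 1)] = true := by decide +kernel

theorem chk_w : chk 3 [(1, c0 1), (7, c0 1), (5, vb 1)]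
    [(2, c0 1), (3, c0 1), (5, c0 1), (0, [([0, 1], 1), ([], -1)]), (7, c0 1), (5, vb 1), (1, c0 1)] = true := by
  decide +kernel

theorem chk_w2 : chk 3 [(2, c0 1), (3, c0 1), (5, c0 1), (0, [([0, 1], 1), ([], -1)]), (2, c0 (-1)), (0, vb (-1))]
    [(3, c0 1), (5, c0 1), (0, c0 (-1))] = true := by
  decide +kernel

theorem chk_e : chk 3 [(1, va 1), (5, vb 1), (0, vc 1)] [(0, [([1, 1], 1)]), (5, vb 1), (0, vc 1), (1, va 1)] = true := by
  decide +kernel

section Rel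

variable (F) in
/-- `n_{10}(1)` -/
def n10 : GG2 F := X 10 1 * (X 1 (-1) * X 10 1)

theorem n10_inv : (n10 F)⁻¹ = X 10 (-1) * (X 1 1 * X 10 (-1)) := by
  rw [n10, mul_inv_rev, mul_inv_rev, ← X_neg, ← X_neg, neg_neg, mul_assoc]

theorem n10_conj {s : ℕ} (hs : s < 12) (t : F) : n10 F * X s t * (n10 F)⁻¹ = X (W 10 s) ((E 10 s : F) * t) := by
  have h := wd_eq (F := F) (n := 0) Int.cast_zero (fun _ => t) _ _ (chk_conj ⟨s, hs⟩)
  rw [mul_inv_eq_iff_eq_mul]
  simpa only [wd, nW, evP_cst, evP_tv, n10, mul_assoc, _root_.Nat.reduceSub, _root_.Int.reduceNeg, _root_.List.cons_append, _root_.List.nil_append, _root_.List.map_cons, _root_.Int.cast_one, _root_.Int.cast_neg, _root_.one_mul, _root_.List.map_nil, _root_.List.prod_cons, _root_.List.prod_nil, _root_.mul_one] using h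

variable [CharP F 3]

theorem three : ((3 : ℤ) : F) = 0 := by
  have := CharP.cast_eq_zero F 3
  exact_mod_cast this

/-- `[x₁₀(1), x₁(1)] = n₁₀⁻¹` -/
theorem rel_n : X 10 (1 : F) * X 1 1 * (X 10 1)⁻¹ * (X 1 1)⁻¹ = (n10 F)⁻¹ := by
  have h := wd_eq (F := F) three (fun _ => 0) _ _ chk_n
  rw [n10_inv, ← X_neg, ← X_neg]
  simpa only [wd, c0, evP, evM, mul_assoc, _root_.Int.reduceNeg, _root_.List.map_cons, _root_.Int.cast_one, _root_.mul_one, _root_.List.map_nil, _root_.List.sum_cons, _root_.List.sum_nil, _root_.add_zero, _root_.Int.cast_neg, _root_.List.prod_cons, _root_.List.prod_nil] using h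

theorem rel_v (a b c d : F) : X 7 a * X 5 b * (X 9 c * X 11 d) = X 10 (b * d) * ((X 9 c * X 11 d) * (X 7 a * X 5 b)) := by
  have h := wd_eq (F := F) three (fun k => if k = 0 then a else if k = 1 then b else if k = 2 then c else d) _ _ chk_v
  simpa only [wd, va, vb, vc, vd, evP, evM, mul_assoc, _root_.List.map_cons, _root_.Int.cast_one, ↓ _root_.reduceIte, _root_.pow_one, _root_.mul_one, _root_.one_mul, _root_.List.map_nil, _root_.List.sum_cons, _root_.List.sum_nil, _root_.add_zero, _root_.pow_zero, _root_.zero_add, _root_.one_ne_zero, _root_.Nat.reduceAdd, _root_.OfNat.ofNat_ne_zero, _root_.OfNat.ofNat_ne_one, _root_.Nat.succ_ne_self, _root_.List.prod_cons, _root_.List.prod_nil] using h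

theorem rel_w (b : F) : X 1 1 * (X 7 1 * X 5 b) * (X 1 1)⁻¹ * (X 7 1 * X 5 b)⁻¹ * (X 2 (-1) * X 0 (-b)) =
    X 3 1 * (X 5 1 * X 0 (-1)) := by
  have h1 := wd_eq (F := F) three (fun _ => b) _ _ chk_w
  have h2 := wd_eq (F := F) three (fun _ => b) _ _ chk_w2
  have h1' : X 1 1 * (X 7 1 * X 5 b) = X 2 1 * (X 3 1 * (X 5 1 * X 0 (b - 1))) * ((X 7 1 * X 5 b) * X 1 1) := by
    simpa only [wd, c0, vb, evP, evM, mul_assoc, sub_eq_add_neg, _root_.List.map_cons, _root_.Int.cast_one, _root_.mul_one, _root_.List.map_nil, _root_.List.sum_cons, _root_.List.sum_nil, _root_.add_zero, _root_.pow_zero, _root_.pow_one, _root_.one_mul, _root_.List.prod_cons, _root_.List.prod_nil, _root_.Int.reduceNeg, _root_.Int.cast_neg] using h1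
  have h2' : X 2 1 * (X 3 1 * (X 5 1 * X 0 (b - 1))) * (X 2 (-1) * X 0 (-b)) = X 3 1 * (X 5 1 * X 0 (-1)) := by
    simpa only [wd, c0, vb, evP, evM, mul_assoc, sub_eq_add_neg, _root_.Int.reduceNeg, _root_.List.map_cons, _root_.Int.cast_one, _root_.mul_one, _root_.List.map_nil, _root_.List.sum_cons, _root_.List.sum_nil, _root_.add_zero, _root_.pow_zero, _root_.pow_one, _root_.one_mul, _root_.Int.cast_neg, _root_.neg_mul, _root_.List.prod_cons, _root_.List.prod_nil] using h2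
  rw [← h2', h1']
  group

theorem rel_e (s e f : F) : X 1 s * (X 5 e * X 0 f) = X 0 (s * e) * ((X 5 e * X 0 f) * X 1 s) := by
  have h := wd_eq (F := F) three (fun k => if k = 0 then s else if k = 1 then e else f) _ _ chk_e
  simpa only [wd, va, vb, vc, evP, evM, mul_assoc, _root_.List.map_cons, _root_.Int.cast_one, ↓ _root_.reduceIte, _root_.pow_one, _root_.mul_one, _root_.one_mul, _root_.List.map_nil, _root_.List.sum_cons, _root_.List.sum_nil, _root_.add_zero, _root_.pow_zero, _root_.zero_add, _root_.one_ne_zero, _root_.Nat.reduceAdd, _root_.OfNat.ofNat_ne_zero, _root_.OfNat.ofNat_ne_one, _root_.List.prod_cons, _root_.List.prod_nil] using h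

end Rel

/-! ### Generation -/

/-- the negative of the exchanged root -/
def nf (r : ℕ) : ℕ := [9, 8, 11, 10, 6, 7, 4, 5, 1, 0, 3, 2].getD r 0

/-- `a` maps the root group of `r` onto the root group of `nf r` -/
def Sw (a : MulAut (GG2 F)) : Prop := ∀ r < 12, ∃ f : F → F, Function.Surjective f ∧ (∀ t, t ≠ 0 → f t ≠ 0) ∧
  ∀ t, a (X r t) = X (nf r) (f t)

section Gen

variable {a : MulAut (GG2 F)} {S : Subgroup (GG2 F)}

/-- the root group of `r` is contained in `S` -/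
def Full (S : Subgroup (GG2 F)) (r : ℕ) : Prop := ∀ t : F, X r t ∈ S

theorem Full.im (ha : Sw a) (hS : ∀ k ∈ S, a k ∈ S) {r s : ℕ} (h : Full S r) (hr : r < 12) (hs : nf r = s) :
    Full S s := by
  intro t
  obtain ⟨f, hf, -, h1⟩ := ha r hr
  obtain ⟨u, rfl⟩ := hf t
  rw [← hs, ← h1]
  exact hS _ (h u)

theorem Full.refl (hn : n10 F ∈ S) {r s : ℕ} (h : Full S r) (hr : r < 12) (hs : W 10 r = s) : Full S s := by
  intro t
  have h1 : ((E 10 r : ℤ) : F) * (E 10 r : F) = 1 := by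
    rcases E_eq 10 r (by norm_num) hr with h | h <;> rw [h] <;> push_cast <;> ring
  have h2 := n10_conj (F := F) hr ((E 10 r : F) * t)
  rw [← mul_assoc, h1, one_mul, hs] at h2
  rw [← h2]
  exact mul_mem (mul_mem hn (h _)) (inv_mem hn)

theorem Full.of_mul {r : ℕ} (h : Full S r) {g k : GG2 F} {t : F} (h1 : X r t * g = k) (hk : k ∈ S) : g ∈ S := by
  have : g = (X r t)⁻¹ * k := by rw [← h1]; group
  rw [this]
  exact mul_mem (inv_mem (h t)) hk

/-- **Generation.** -/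
theorem mem_all [CharP F 3] (ha : Sw a) (hS : ∀ k ∈ S, a k ∈ S) {β : F} (hβ : β ≠ 0) (hg : ∀ s : F, s ≠ 0 → ∃ k : ℕ, β ^ k = s)
    (h1 : X 10 1 * (a (X 10 1))⁻¹ ∈ S) (h2 : X 1 1 * (a (X 1 1))⁻¹ ∈ S)
    (h3 : X 1 1 * X 10 1 * (a (X 1 1 * X 10 1))⁻¹ ∈ S) (h4 : X 7 1 * (a (X 7 1))⁻¹ ∈ S)
    (h5 : H689.Ccp.H β β * (a (H689.Ccp.H β β))⁻¹ ∈ S) : S = ⊤ := by
  -- `n₁₀`
  have hn : n10 F ∈ S := by
    obtain ⟨f, -, -, hf⟩ := ha 10 (by norm_num)
    have hc : a (X 10 1) * X 1 1 = X 1 1 * a (X 10 (1 : F)) := by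
      rw [hf]; exact comm_3_1 _ _
    have e : (n10 F)⁻¹ = X 10 1 * (a (X 10 1))⁻¹ * (X 1 1 * (a (X 1 1))⁻¹) *
        (X 1 1 * X 10 1 * (a (X 1 1 * X 10 1))⁻¹)⁻¹ := by
      rw [← rel_n, map_mul]
      have e2 : (a (X 10 1))⁻¹ * X 1 1 * a (X 10 (1 : F)) = X 1 1 := by
        rw [mul_assoc, ← hc]; group
      calc X 10 (1 : F) * X 1 1 * (X 10 1)⁻¹ * (X 1 1)⁻¹ = X 10 1 * ((a (X 10 1))⁻¹ * X 1 1 * a (X 10 (1 : F))) *
            (X 10 1)⁻¹ * (X 1 1)⁻¹ := by rw [e2]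
        _ = _ := by group
    have h6 : (n10 F)⁻¹ ∈ S := by
      rw [e]
      exact mul_mem (mul_mem h1 h2) (inv_mem h3)
    exact inv_mem_iff.1 h6
  have hn' : a (n10 F) ∈ S := hS _ hn
  -- the element `v`
  obtain ⟨f7, hf7, hf70, e7⟩ := ha 7 (by norm_num)
  obtain ⟨f5, hf5, hf50, e5⟩ := ha 5 (by norm_num)
  obtain ⟨f0, hf0, hf00, e0⟩ := ha 0 (by norm_num)
  obtain ⟨f2, hf2, hf20, e2⟩ := ha 2 (by norm_num)
  have hb : -f7 1 ≠ 0 := neg_ne_zero.2 (hf70 1 one_ne_zero)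
  set b := -f7 1 with hbdef
  have hv : X 7 1 * X 5 b ∈ S := by
    rw [e7, ← X_neg] at h4
    exact h4
  have hE : ∀ r < 12, ((E 10 r : ℤ) : F) ≠ 0 := by
    intro r hr
    rcases E_eq 10 r (by norm_num) hr with h | h <;> rw [h] <;> simp
  -- the element `d`
  obtain ⟨p, hp⟩ : ∃ p : F, a (n10 F) * X 7 1 * (a (n10 F))⁻¹ = X 9 p := by
    obtain ⟨t, ht⟩ := hf5 1
    refine ⟨f0 ((E 10 5 : F) * t), ?_⟩
    have h6 : X 7 (1 : F) = a (X 5 t) := by rw [e5, ht]; rfl
    rw [h6, ← map_mul, ← map_inv, ← map_mul, n10_conj (by norm_num)]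
    exact e0 _
  obtain ⟨q, hq0, hq⟩ : ∃ q : F, q ≠ 0 ∧ a (n10 F) * X 5 b * (a (n10 F))⁻¹ = X 11 q := by
    obtain ⟨t, ht⟩ := hf7 b
    have ht0 : t ≠ 0 := by
      rintro rfl
      have h6 := e7 0
      rw [X_zero, map_one, ht] at h6
      exact hb (H689.Ccp.X_inj (by norm_num : 5 < 12) (h6.symm.trans (X_zero 5).symm))
    refine ⟨f2 ((E 10 7 : F) * t), hf20 _ (mul_ne_zero (hE 7 (by norm_num)) ht0), ?_⟩
    have h6 : X 5 b = a (X 7 t) := by rw [e7, ht]; rfl
    rw [h6, ← map_mul, ← map_inv, ← map_mul, n10_conj (by norm_num)]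
    exact e2 _
  have hv' : X 9 p * X 11 q ∈ S := by
    have h6 := mul_mem (mul_mem hn' hv) (inv_mem hn')
    have h7 : a (n10 F) * (X 7 1 * X 5 b) * (a (n10 F))⁻¹ = (a (n10 F) * X 7 1 * (a (n10 F))⁻¹) *
        (a (n10 F) * X 5 b * (a (n10 F))⁻¹) := by group
    rwa [h7, hp, hq] at h6
  have hd : X 10 (b * q) ∈ S := by
    have h6 : X 10 (b * q) = (X 7 1 * X 5 b * (X 9 p * X 11 q)) * ((X 9 p * X 11 q) * (X 7 1 * X 5 b))⁻¹ := by
      rw [rel_v]; group
    rw [h6]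
    exact mul_mem (mul_mem hv hv') (inv_mem (mul_mem hv' hv))
  -- the torus
  have h10 : Full S 10 := by
    have hk : ∀ t : F, X 10 t ∈ S → X 10 (β ^ 2 * t) ∈ S := by
      intro t ht
      obtain ⟨f3, hf3, -, e3⟩ := ha 3 (by norm_num)
      obtain ⟨u, hu⟩ := hf3 t
      have h6 : X 10 t = a (X 3 u) := by rw [e3, hu]; rfl
      have h7 : a (H689.Ccp.H β β) * X 10 t * (a (H689.Ccp.H β β))⁻¹ = X 10 t := by
        rw [h6, ← map_mul, ← map_inv, ← map_mul, H689.Ccp.H_conj hβ hβ (by norm_num)]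
        congr 2
        show β ^ (1 : ℤ) * (β ^ (-1 : ℤ) * u) = u
        rw [zpow_one, zpow_neg, zpow_one, mul_inv_cancel_left₀ hβ]
      have h7' : (a (H689.Ccp.H β β))⁻¹ * X 10 t * a (H689.Ccp.H β β) = X 10 t := by
        nth_rewrite 1 [← h7]
        group
      have h8 : H689.Ccp.H β β * X 10 t * (H689.Ccp.H β β)⁻¹ = X 10 (β ^ 2 * t) := by
        rw [H689.Ccp.H_conj hβ hβ (by norm_num)]
        congr 1
        show β ^ (3 : ℤ) * (β ^ (-1 : ℤ) * t) = β ^ 2 * t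
        rw [zpow_neg, zpow_one, show β ^ (3 : ℤ) = β ^ 3 by norm_cast]
        field_simp
      have h9 : X 10 (β ^ 2 * t) = H689.Ccp.H β β * (a (H689.Ccp.H β β))⁻¹ * X 10 t *
          (H689.Ccp.H β β * (a (H689.Ccp.H β β))⁻¹)⁻¹ := by
        rw [← h8]
        nth_rewrite 1 [← h7']
        group
      rw [h9]
      exact mul_mem (mul_mem h5 ht) (inv_mem h5)
    have hpow : ∀ k : ℕ, X 10 ((β ^ 2) ^ k * (b * q)) ∈ S := by
      intro k
      induction k with
      | zero => rwa [pow_zero, one_mul]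
      | succ k ih =>
        have := hk _ ih
        rwa [← mul_assoc, ← pow_succ'] at this
    have hsq : ∀ s : F, X 10 (s ^ 2 * (b * q)) ∈ S := by
      intro s
      by_cases hs : s = 0
      · rw [hs, zero_pow (by norm_num), zero_mul, X_zero]; exact one_mem _
      · obtain ⟨k, hk'⟩ := hg s hs
        have := hpow k
        rwa [← pow_mul, mul_comm 2 k, pow_mul, hk'] at this
    intro t
    have hbq : b * q ≠ 0 := mul_ne_zero hb hq0
    have h4 : (3 : F) = 0 := by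
      have := CharP.cast_eq_zero F 3
      exact_mod_cast this
    have h6 : t = (t / (b * q) + 1) ^ 2 * (b * q) + -((t / (b * q) - 1) ^ 2 * (b * q)) := by
      have h7 : (t / (b * q) + 1) ^ 2 * (b * q) + -((t / (b * q) - 1) ^ 2 * (b * q)) =
          t / (b * q) * (b * q) + 3 * (t / (b * q) * (b * q)) := by ring
      rw [h7, h4, zero_mul, add_zero, div_mul_cancel₀ _ hbq]
    rw [h6, X_add, X_neg]
    exact mul_mem (hsq _) (inv_mem (hsq _))
  have h1' : Full S 1 := h10.refl hn (by norm_num) rfl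
  have h3' : Full S 3 := h10.im ha hS (by norm_num) rfl
  have h8' : Full S 8 := h1'.im ha hS (by norm_num) rfl
  -- separation
  have hE' : X 5 (1 : F) * X 0 (-1) ∈ S := by
    have hv2 : X 2 (-1) * X 0 (-b) ∈ S := by
      have h6 := mul_mem (mul_mem hn hv) (inv_mem hn)
      have h7 : n10 F * (X 7 1 * X 5 b) * (n10 F)⁻¹ = (n10 F * X 7 1 * (n10 F)⁻¹) * (n10 F * X 5 b * (n10 F)⁻¹) := by
        group
      have e7' : ((E 10 7 : ℤ) : F) * 1 = -1 := by show ((-1 : ℤ) : F) * 1 = -1; push_cast; ring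
      have e5' : ((E 10 5 : ℤ) : F) * b = -b := by show ((-1 : ℤ) : F) * b = -b; push_cast; ring
      rw [h7, n10_conj (by norm_num), n10_conj (by norm_num), e7', e5'] at h6
      exact h6
    refine h3'.of_mul (rel_w b).symm ?_
    exact mul_mem (mul_mem (mul_mem (mul_mem (h1' 1) hv) (inv_mem (h1' 1))) (inv_mem hv)) hv2
  have h0' : Full S 0 := by
    intro s
    have h6 : X 0 s = X 1 s * (X 5 (1 : F) * X 0 (-1)) * ((X 5 (1 : F) * X 0 (-1)) * X 1 s)⁻¹ := by
      rw [rel_e, mul_one]; group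
    rw [h6]
    exact mul_mem (mul_mem (h1' s) hE') (inv_mem (mul_mem hE' (h1' s)))
  have h9' : Full S 9 := h0'.im ha hS (by norm_num) rfl
  have h5' : Full S 5 := h0'.refl hn (by norm_num) rfl
  have h7' : Full S 7 := h5'.im ha hS (by norm_num) rfl
  have h2' : Full S 2 := h7'.refl hn (by norm_num) rfl
  have h11' : Full S 11 := h2'.im ha hS (by norm_num) rfl
  have h6' : Full S 6 := h11'.refl hn (by norm_num) rfl
  have h4' : Full S 4 := h6'.im ha hS (by norm_num) rfl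
  have hall : ∀ r < 12, Full S r := by
    intro r hr
    interval_cases r <;> assumption
  have h6 := (group_le_iff (F := F) hD (S.map (chevG2.group F).subtype)).2 (fun r hr t => ⟨X r t, hall r hr t, rfl⟩)
  rw [eq_top_iff]
  intro g _
  obtain ⟨g', hg', e⟩ := h6 g.2
  have e' : g' = g := Subtype.ext e
  rwa [e'] at hg'

/-- **Six conjugates.** -/
theorem reach_six [CharP F 3] [Finite F] (ha : Sw a) : Reach a 6 ⊤ := by
  obtain ⟨g, hg⟩ := IsCyclic.exists_generator (α := Fˣ)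
  have hβ : (g : F) ≠ 0 := g.ne_zero
  let f : Fin 5 → GG2 F := ![X 10 1, X 1 1, X 1 1 * X 10 1, X 7 1, H689.Ccp.H (g : F) (g : F)]
  refine Reach₁.reach (s := 5) ⟨f, ?_⟩
  set M : Subgroup (MulAut (GG2 F)) := zpowers a ⊔ Gn a f with hM
  have haM : a ∈ M := mem_sup_left (mem_zpowers a)
  let S : Subgroup (GG2 F) := M.comap (MulAut.conj : GG2 F →* MulAut (GG2 F))
  have hc : ∀ i : Fin 5, f i * (a (f i))⁻¹ ∈ S := by
    intro i
    show MulAut.conj (f i * (a (f i))⁻¹) ∈ M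
    have h1 : MulAut.conj (f i * (a (f i))⁻¹) = (MulAut.conj (f i) * a * (MulAut.conj (f i))⁻¹) * a⁻¹ := by
      rw [map_mul, map_inv, ← conj_apply_mul]
      group
    rw [h1]
    exact mul_mem (mem_sup_right (mem_Gn a f i)) (inv_mem haM)
  have hS : ∀ k ∈ S, a k ∈ S := by
    intro k hk
    show MulAut.conj (a k) ∈ M
    rw [← conj_apply_mul]
    exact mul_mem (mul_mem haM hk) (inv_mem haM)
  have h := mem_all (S := S) ha hS hβ (fun s hs => by
    have h1 := hg (Units.mk0 s hs)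
    rw [← mem_powers_iff_mem_zpowers] at h1
    obtain ⟨k, hk⟩ := h1
    exact ⟨k, by rw [← Units.val_pow_eq_pow_val]; exact congrArg Units.val hk⟩)
    (hc 0) (hc 1) (hc 2) (hc 3) (hc 4)
  rintro _ ⟨k, -, rfl⟩
  have h1 : k ∈ S := by rw [h]; trivial
  exact h1

end Gen

end Cfsg.Agent.H929.Gs.G2
end

-- part: H929/Gs/G2Form
section
/-!
# `G₂(3^f)`: the form of a type-swapping automorphism (helper929, S4327)

* `rep_cases` : the twelve pairs `(w α, w β)`; `rep_neg` : the longest element;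
* `mm` : a representative of the longest element; `exists_sw` : a type-swapping automorphism of order two is, up to
  conjugation, monomial, and maps the root group of `r` onto the root group of `nf r`;
* `reach_eleven` : eleven conjugates generate.
-/

set_option autoImplicit false
set_option maxRecDepth 100000

namespace Cfsg.Agent.H929.Gs.G2

open scoped Pointwise
open CoxeterSystem Subgroup Cfsg Cfsg.Lie
open Cfsg.Agent.ChevalleyStructure Cfsg.Agent.ChevalleyStructure.Elts Cfsg.Agent.ChevalleyStructure.CoxeterGeom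
  Cfsg.Agent.ChevalleyStructure.CoxeterGeomTypes
open Cfsg.Agent.Tits.Roots Cfsg.Agent.Nodes Cfsg.Agent.Nodes.Reps Cfsg.Agent.Nodes.BNOf
  Cfsg.Agent.Nodes.RGDChev Cfsg.Agent.Nodes.Bruhat
open Cfsg.Agent.H542.Pi.G2P (cs hp rg)

/-! ### The Weyl group -/

theorem refl0 (x y : ℤ) : refl (cartanOf chevG2 2) 0 ![x, y] = ![-x + 3 * y, y] := by
  have h0 : cartanOf chevG2 2 0 0 = 2 := by decide +kernel
  have h1 : cartanOf chevG2 2 0 1 = -3 := by decide +kernel
  ext i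
  fin_cases i
  · simp [refl_apply, pairing, Fin.sum_univ_two, h0, h1]; ring
  · simp [refl_apply, pairing, Fin.sum_univ_two, h0, h1]

theorem refl1 (x y : ℤ) : refl (cartanOf chevG2 2) 1 ![x, y] = ![x, -y + x] := by
  have h0 : cartanOf chevG2 2 1 0 = -1 := by decide +kernel
  have h1 : cartanOf chevG2 2 1 1 = 2 := by decide +kernel
  ext i
  fin_cases i
  · simp [refl_apply, pairing, Fin.sum_univ_two, h0, h1]
  · simp [refl_apply, pairing, Fin.sum_univ_two, h0, h1]; ring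

/-- the list of the pairs -/
def LL : List (ℤ × ℤ × ℤ × ℤ) := [(1, 0, 0, 1), (-1, 0, 3, 1), (1, 1, 0, -1), (-1, -1, 3, 2), (2, 1, -3, -1),
  (-2, -1, 3, 2), (2, 1, -3, -2), (-2, -1, 3, 1), (1, 1, -3, -2), (-1, -1, 0, 1), (1, 0, -3, -1), (-1, 0, 0, -1)]

theorem LL_closed : ∀ q ∈ LL, (-q.1 + 3 * q.2.1, q.2.1, -q.2.2.1 + 3 * q.2.2.2, q.2.2.2) ∈ LL ∧
    (q.1, -q.2.1 + q.1, q.2.2.1, -q.2.2.2 + q.2.2.1) ∈ LL := by decide +kernel

theorem rep_cases (w : CoxeterMatrix.G₂.Group) : ∃ q ∈ LL, rep cs hp.isCartan w (sr 0) = ![q.1, q.2.1] ∧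
    rep cs hp.isCartan w (sr 1) = ![q.2.2.1, q.2.2.2] := by
  refine cs.simple_induction_left (p := fun w => ∃ q ∈ LL, rep cs hp.isCartan w (sr 0) = ![q.1, q.2.1] ∧
    rep cs hp.isCartan w (sr 1) = ![q.2.2.1, q.2.2.2]) w ?_ ?_
  · refine ⟨(1, 0, 0, 1), by decide, ?_, ?_⟩
    · rw [map_one]; ext i; (revert i; simp only [sr, _root_.Fin.forall_fin_succ, Fin.isValue, _root_.Module.End.one_apply, _root_.Nat.succ_eq_add_one, Nat.reduceAdd, _root_.Pi.single_eq_same, _root_.Matrix.cons_val_zero, _root_.ne_eq, _root_.Fin.succ_ne_zero, _root_.not_false_eq_true, _root_.Pi.single_eq_of_ne, _root_.Matrix.cons_val_succ, _root_.Matrix.cons_val_fin_one, _root_.implies_true, _root_.and_self])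
    · rw [map_one]; ext i; fin_cases i <;> simp [sr]
  · rintro w i ⟨q, hq, h1, h2⟩
    have hi : i = 0 ∨ i = 1 := by
      revert i; decide
    rcases hi with rfl | rfl
    · refine ⟨_, (LL_closed q hq).1, ?_, ?_⟩
      · rw [rep_mul_apply, h1, rep_simple, refl0]
      · rw [rep_mul_apply, h2, rep_simple, refl0]
    · refine ⟨_, (LL_closed q hq).2, ?_, ?_⟩
      · rw [rep_mul_apply, h1, rep_simple, refl1]
      · rw [rep_mul_apply, h2, rep_simple, refl1]

theorem LL_ne : ∀ q ∈ LL, ¬ (q.1 = 0 ∧ q.2.1 = 1) ∧ ¬ (q.2.2.1 = 1 ∧ q.2.2.2 = 0) ∧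
    (q.1 ≤ 0 ∧ q.2.1 ≤ 0 ∧ q.2.2.1 ≤ 0 ∧ q.2.2.2 ≤ 0 → q = (-1, 0, 0, -1)) := by decide +kernel

/-- the longest element -/
theorem rep_neg {w : CoxeterMatrix.G₂.Group} {σ : Equiv.Perm (Fin 2)} (hσ : σ ≠ 1)
    (h : ∀ i, rep cs hp.isCartan w (sr (σ i)) = sr i ∨ rep cs hp.isCartan w (sr (σ i)) ≤ 0) (i : Fin 2) :
    rep cs hp.isCartan w (sr i) = -sr i := by
  have hσ' : ∀ σ : Equiv.Perm (Fin 2), σ ≠ 1 → σ 0 = 1 ∧ σ 1 = 0 := by decide
  obtain ⟨e0, e1⟩ := hσ' σ hσ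
  obtain ⟨q, hq, h1, h2⟩ := rep_cases w
  obtain ⟨n1, n2, n3⟩ := LL_ne q hq
  have h3 : rep cs hp.isCartan w (sr 1) ≤ 0 := by
    rcases h 0 with h4 | h4
    · exfalso
      rw [e0, h2] at h4
      refine n2 ⟨?_, ?_⟩
      · have := congrFun h4 0; simpa [sr] using this
      · have := congrFun h4 1; simpa [sr] using this
    · rwa [e0] at h4
  have h5 : rep cs hp.isCartan w (sr 0) ≤ 0 := by
    rcases h 1 with h4 | h4
    · exfalso
      rw [e1, h1] at h4
      refine n1 ⟨?_, ?_⟩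
      · have := congrFun h4 0; simpa [sr] using this
      · have := congrFun h4 1; simpa [sr] using this
    · rwa [e1] at h4
  have h6 : q = (-1, 0, 0, -1) := by
    refine n3 ⟨?_, ?_, ?_, ?_⟩
    · have := h5 0; rw [h1] at this; simpa only [_root_.ge_iff_le, _root_.Fin.isValue, _root_.Nat.succ_eq_add_one, _root_.Nat.reduceAdd, _root_.Matrix.cons_val_zero, _root_.Pi.zero_apply] using this
    · have := h5 1; rw [h1] at this; simpa using this
    · have := h3 0; rw [h2] at this; simpa using this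
    · have := h3 1; rw [h2] at this; simpa using this
  subst h6
  have hi : i = 0 ∨ i = 1 := by revert i; decide
  rcases hi with rfl | rfl
  · rw [h1]; ext i; fin_cases i <;> simp [sr]
  · rw [h2]; ext i; fin_cases i <;> simp [sr]

/-! ### The longest element of the group -/

section Long

open Cfsg.Agent.ChevalleyStructure.G2Sym
open Cfsg.Agent.ChevalleyStructure.G2N (nW W E tv cst evP_cst evP_tv E_eq)
open Cfsg.Agent.H689.Ccp (GG2 X X_add X_zero X_neg hD)
open Cfsg.Agent.H70.ChevFix Cfsg.Agent.H70.AutFix Cfsg.Agent.Schreier.ChevLocal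

universe u

variable {F : Type u} [Field F]

theorem chk_conj8 : ∀ s : Fin 12, chk 0 (nW 8 ++ [(s.val, tv 1)]) ((W 8 s.val, tv (E 8 s.val)) :: nW 8) = true := by
  decide +kernel

variable (F) in
/-- `n_8(1)` -/
def n8 : GG2 F := X 8 1 * (X 3 (-1) * X 8 1)

theorem n8_conj {s : ℕ} (hs : s < 12) (t : F) : n8 F * X s t * (n8 F)⁻¹ = X (W 8 s) ((E 8 s : F) * t) := by
  have h := wd_eq (F := F) (n := 0) Int.cast_zero (fun _ => t) _ _ (chk_conj8 ⟨s, hs⟩)
  rw [mul_inv_eq_iff_eq_mul]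
  simpa only [wd, nW, evP_cst, evP_tv, n8, mul_assoc, _root_.Nat.reduceSub, _root_.Int.reduceNeg, _root_.List.cons_append, _root_.List.nil_append, _root_.List.map_cons, _root_.Int.cast_one, _root_.Int.cast_neg, _root_.one_mul, _root_.List.map_nil, _root_.List.prod_cons, _root_.List.prod_nil, _root_.mul_one] using h

variable (F) in
/-- a representative of the longest element -/
def mm : GG2 F := n10 F * n8 F

theorem W_tab : ∀ s < 12, W 8 s < 12 ∧ W 10 (W 8 s) = 11 - s := by decide +kernel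

theorem mm_conj {s : ℕ} (hs : s < 12) : ∃ η : F, η ≠ 0 ∧ ∀ t : F, mm F * X s t * (mm F)⁻¹ = X (11 - s) (η * t) := by
  obtain ⟨h1, h2⟩ := W_tab s hs
  have hE : ∀ r < 12, ∀ p < 12, ((E p r : ℤ) : F) ≠ 0 := by
    intro r hr p hp
    rcases E_eq p r hp hr with h | h <;> rw [h] <;> simp
  refine ⟨(E 10 (W 8 s) : F) * E 8 s, mul_ne_zero (hE _ h1 _ (by norm_num)) (hE _ hs _ (by norm_num)), fun t => ?_⟩
  have e : mm F * X s t * (mm F)⁻¹ = n10 F * (n8 F * X s t * (n8 F)⁻¹) * (n10 F)⁻¹ := by rw [mm]; group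
  rw [e, n8_conj hs, n10_conj h1, h2, mul_assoc]

/-- `conj g` maps the root group of `r` onto the root group of `s` -/
def Mv (g : GG2 F) (r s : ℕ) : Prop := (∀ t : F, ∃ t' : F, g * X r t * g⁻¹ = X s t') ∧
  ∀ t : F, ∃ t' : F, g⁻¹ * X s t * g = X r t'

theorem mm_mv {s : ℕ} (hs : s < 12) : Mv (mm F) s (11 - s) := by
  obtain ⟨η, h0, h⟩ := mm_conj (F := F) hs
  refine ⟨fun t => ⟨_, h t⟩, fun t => ⟨η⁻¹ * t, ?_⟩⟩
  have h1 := h (η⁻¹ * t)
  rw [mul_inv_cancel_left₀ h0] at h1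
  rw [← h1]
  group

theorem mv_mm {s : ℕ} (hs : s < 12) : Mv (mm F) (11 - s) s := by
  have h1 := mm_mv (F := F) (s := 11 - s) (by omega)
  rwa [show 11 - (11 - s) = s by omega] at h1

theorem pos_iff : ∀ r < 12, chevG2.IsPosRoot r → chevG2.IsNegRoot (11 - r) := by decide +kernel
theorem neg_iff : ∀ r < 12, chevG2.IsNegRoot r → chevG2.IsPosRoot (11 - r) := by decide +kernel

theorem mm_UU : MulAut.conj (mm F) • UU chevG2 F = VN chevG2 F := by
  have h1 : chevG2.posUnipotent F ≤ (chevG2.negUnipotent F).comap (MulAut.conj (mm F : GL chevG2.Idx F)).toMonoidHom := by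
    rw [posUnipotent_le_iff hD]
    intro r hr t
    have hr12 : r < 12 := hr.1
    obtain ⟨t', h⟩ := (mm_mv (F := F) hr12).1 t
    show (mm F : GL chevG2.Idx F) * xG hD r t * (mm F : GL chevG2.Idx F)⁻¹ ∈ chevG2.negUnipotent F
    have h' : (mm F : GL chevG2.Idx F) * xG hD r t * (mm F : GL chevG2.Idx F)⁻¹ = xG hD (11 - r) t' :=
      congrArg Subtype.val h
    rw [h']
    exact xG_mem_negUnipotent hD (pos_iff r hr12 hr) _
  have h2 : chevG2.negUnipotent F ≤
      (chevG2.posUnipotent F).comap (MulAut.conj (mm F : GL chevG2.Idx F)⁻¹).toMonoidHom := by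
    rw [negUnipotent_le_iff hD]
    intro r hr t
    have hr12 : r < 12 := hr.1
    obtain ⟨t', h⟩ := (mv_mm (F := F) hr12).2 t
    show (mm F : GL chevG2.Idx F)⁻¹ * xG hD r t * (mm F : GL chevG2.Idx F)⁻¹⁻¹ ∈ chevG2.posUnipotent F
    have h' : (mm F : GL chevG2.Idx F)⁻¹ * xG hD r t * (mm F : GL chevG2.Idx F)⁻¹⁻¹ = xG hD (11 - r) t' := by
      rw [inv_inv]
      exact congrArg Subtype.val h
    rw [h']
    exact xG_mem_posUnipotent hD (neg_iff r hr12 hr) _
  apply le_antisymm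
  · intro g hg
    rw [mem_smul_iff, ← map_inv, MulAut.conj_apply, inv_inv] at hg
    have h3 := h1 (show ((mm F)⁻¹ * g * mm F : GG2 F).1 ∈ chevG2.posUnipotent F from hg)
    have h4 : (mm F : GL chevG2.Idx F) * ((mm F)⁻¹ * g * mm F : GG2 F).1 * (mm F : GL chevG2.Idx F)⁻¹ = g.1 := by
      show ((mm F * ((mm F)⁻¹ * g * mm F) * (mm F)⁻¹ : GG2 F)).1 = g.1
      congr 1
      group
    show g.1 ∈ chevG2.negUnipotent F
    rw [← h4]
    exact h3
  · intro g hg
    rw [mem_smul_iff, ← map_inv, MulAut.conj_apply, inv_inv]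
    have h3 := h2 (show g.1 ∈ chevG2.negUnipotent F from hg)
    have h4 : (mm F : GL chevG2.Idx F)⁻¹ * g.1 * (mm F : GL chevG2.Idx F)⁻¹⁻¹ = ((mm F)⁻¹ * g * mm F : GG2 F).1 := by
      rw [inv_inv]; rfl
    show ((mm F)⁻¹ * g * mm F : GG2 F).1 ∈ chevG2.posUnipotent F
    rw [← h4]
    exact h3

theorem Mv.mul {g h : GG2 F} {r s u : ℕ} (h1 : Mv g r s) (h2 : Mv h s u) : Mv (h * g) r u := by
  refine ⟨fun t => ?_, fun t => ?_⟩
  · obtain ⟨t', e1⟩ := h1.1 t
    obtain ⟨t'', e2⟩ := h2.1 t'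
    exact ⟨t'', by rw [← e2, ← e1]; group⟩
  · obtain ⟨t', e1⟩ := h2.2 t
    obtain ⟨t'', e2⟩ := h1.2 t'
    exact ⟨t'', by rw [← e2, ← e1]; group⟩

theorem Mv.inv {g : GG2 F} {r s : ℕ} (h1 : Mv g r s) : Mv g⁻¹ s r := by
  refine ⟨fun t => ?_, fun t => ?_⟩
  · rw [inv_inv]; exact h1.2 t
  · rw [inv_inv]; exact h1.1 t

end Long

section Main

open Cfsg.Agent.H689.Ccp (GG2 X X_add X_zero X_neg hD fl la fl_tab psi_X H_conj exists_H H_mem fin_g2 simple_i0
  simple_i1 neg_i0 neg_i1 root_la)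
open Cfsg.Agent.H70.ChevFix Cfsg.Agent.H70.AutFix Cfsg.Agent.Schreier.ChevLocal Cfsg.Agent.H70.ChevField
open Cfsg.Agent.H542.Pi (Ty perm_conj)
open Cfsg.Agent.H69.OutGF (flip2 flip2_ne)
open Cfsg.Agent.KFacts.RgdDiag
open Cfsg.Agent.H915.Gs (Reach conj_apply_mul)

variable {F : Type} [Field F]

theorem mem_HH_of_mv [Finite F] {g : GG2 F} (h7 : Mv g 7 7) (h6 : Mv g 6 6) (h4 : Mv g 4 4) (h5 : Mv g 5 5) :
    g ∈ HH chevG2 F := by
  have key : ∀ {r : ℕ}, Mv g r r → MulAut.conj g • H70.ChevFix.XX chevG2 F r = H70.ChevFix.XX chevG2 F r := by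
    intro r h
    apply le_antisymm
    · intro z hz
      rw [mem_smul_iff, mem_XX hD] at hz
      obtain ⟨t, ht⟩ := hz
      obtain ⟨t', h'⟩ := h.1 t
      rw [mem_XX hD]
      refine ⟨t', ?_⟩
      have h1 := congrArg (MulAut.conj g) ht
      rw [MulAut.apply_inv_self] at h1
      rw [h1]
      exact h'
    · intro z hz
      rw [mem_XX hD] at hz
      obtain ⟨t, rfl⟩ := hz
      obtain ⟨t', h'⟩ := h.2 t
      rw [mem_smul_iff, mem_XX hD, ← map_inv, MulAut.conj_apply, inv_inv]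
      exact ⟨t', h'⟩
  refine (perm_conj hD (h := g) (π := 1) ⟨fun i => ?_, fun i => ?_⟩).2
  · rcases fin_g2 i with rfl | rfl
    · rw [Equiv.Perm.one_apply, simple_i0]; exact key h7
    · rw [Equiv.Perm.one_apply, simple_i1]; exact key h6
  · rcases fin_g2 i with rfl | rfl
    · rw [Equiv.Perm.one_apply, neg_i0]; exact key h4
    · rw [Equiv.Perm.one_apply, neg_i1]; exact key h5

theorem mm_sq [Finite F] : mm F * mm F ∈ HH chevG2 F := by
  have key : ∀ r < 12, Mv (mm F * mm F) r r := fun r hr => (mm_mv hr).mul (mv_mm hr)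
  exact mem_HH_of_mv (key 7 (by norm_num)) (key 6 (by norm_num)) (key 4 (by norm_num)) (key 5 (by norm_num))

theorem smul_of_norm {g : GG2 F} {A : Subgroup (GG2 F)} (h : g ∈ Subgroup.normalizer (A : Set (GG2 F))) :
    MulAut.conj g • A = A := (mem_normalizer_iff_smul A g).1 h

theorem HH_norm {g : GG2 F} (hg : g ∈ HH chevG2 F) :
    g ∈ Subgroup.normalizer ((UU chevG2 F : Subgroup (GG2 F)) : Set (GG2 F)) ∧
      g ∈ Subgroup.normalizer ((VN chevG2 F : Subgroup (GG2 F)) : Set (GG2 F)) := by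
  have := hg
  rw [← normalizer_inf hD, Subgroup.mem_inf] at this
  exact this

theorem mm_VN [Finite F] : MulAut.conj (mm F) • VN chevG2 F = UU chevG2 F := by
  rw [← mm_UU, ← mul_smul, ← map_mul]
  exact smul_of_norm (HH_norm mm_sq).1

theorem B_ne {t : ℕ} [Finite F] [Fact t.Prime] [CharP F t] :
    RGD.B cs hp.isCartan (KFacts.RgdChevCoord.TT chevG2 F) (KFacts.RgdChevCoord.XX chevG2 2 F) ≠ ⊤ := by
  intro h1
  have := finite_W hp cs
  have h2 := Cfsg.Agent.H934.RowRgd.PJ_ne_top (rg F t) (J := (∅ : Set (Fin 2))) (i := 0) (by simp)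
  refine h2 (top_le_iff.1 ?_)
  rw [← h1]
  exact fun b hb => LeviDec.B_le_PJ hb

theorem XX_sr (i : Fin 2) : KFacts.RgdChevCoord.XX chevG2 2 F (sr i) =
    H70.ChevFix.XX chevG2 F (chevG2.simple i) := by
  show (XV chevG2 2 F (sr i)).subgroupOf (chevG2.group F) = _
  rw [XV_sr hp]

theorem XX_neg_sr (i : Fin 2) : KFacts.RgdChevCoord.XX chevG2 2 F (-sr i) =
    H70.ChevFix.XX chevG2 F (chevG2.neg (chevG2.simple i)) := by
  show (XV chevG2 2 F (-sr i)).subgroupOf (chevG2.group F) = _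
  rw [XV_neg_sr hp]

theorem perm_of_diag {β : MulAut (GG2 F)} {σ : Equiv.Perm (Fin 2)}
    (D : Diag (KFacts.RgdChevCoord.TT chevG2 F) (KFacts.RgdChevCoord.XX chevG2 2 F) β σ) : Perm chevG2 F β σ := by
  have h1 : ∀ i : Fin 2, β • H70.ChevFix.XX chevG2 F (chevG2.simple i) =
      H70.ChevFix.XX chevG2 F (chevG2.simple (σ i : Fin 2)) := by
    intro i
    ext g
    have h := D.pos i (β⁻¹ g)
    rw [MulAut.apply_inv_self, XX_sr, XX_sr] at h
    rw [mem_smul_iff]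
    exact h.symm
  have h2 : ∀ i : Fin 2, β • H70.ChevFix.XX chevG2 F (chevG2.neg (chevG2.simple i)) =
      H70.ChevFix.XX chevG2 F (chevG2.neg (chevG2.simple (σ i : Fin 2))) := by
    intro i
    ext g
    have h := D.neg i (β⁻¹ g)
    rw [MulAut.apply_inv_self, XX_neg_sr, XX_neg_sr] at h
    rw [mem_smul_iff]
    exact h.symm
  exact ⟨h1, h2⟩

theorem fl_tab2 : ∀ r < 12, fl (11 - r) = 11 - fl r ∧ nf r = 11 - fl r := by decide +kernel

/-- **The form of a type-swapping automorphism of order two.** -/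
theorem exists_sw [Finite F] [CharP F 3] [IsSimpleGroup (GG2 F)] {x : MulAut (GG2 F)} (hx : Ty chevG2 F x flip2)
    (h2 : x * x = 1) : ∃ y : GG2 F, Sw (MulAut.conj y * x * (MulAut.conj y)⁻¹) := by
  have hF3 : Fact (Nat.Prime 3) := ⟨Nat.prime_three⟩
  have hW := finite_W hp cs
  have hG : GG cs hp.isCartan (KFacts.RgdChevCoord.TT chevG2 F) (KFacts.RgdChevCoord.XX chevG2 2 F) = ⊤ :=
    BpExc.TorChev.GG_top hp cs
  obtain ⟨y, k, b, w, β, σ, e, hk, hb, D, hfix, -, -, hst⟩ := H441.GS.exists_form (rg F 3) hG (B_ne (t := 3)) x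
  have hP := perm_of_diag D
  -- the type
  have hσ : σ ≠ 1 := by
    have h3 : Ty chevG2 F (MulAut.conj y * x * (MulAut.conj y)⁻¹) (1 * flip2 * 1⁻¹) :=
      ((Ty.conj y).mul hx).mul (Ty.conj y).inv
    have h4 : Ty chevG2 F (MulAut.conj y * x * (MulAut.conj y)⁻¹) σ := ⟨k * b, β, e, hP⟩
    have h5 := h3.unique hD h4
    rw [one_mul, inv_one, mul_one] at h5
    rw [← h5]
    exact flip2_ne
  obtain ⟨u, v, hu, hv, τ, hβ⟩ := H689.Ccp.exists_form hP hσ
  have hrep := rep_neg hσ (fun i => (hst i).imp id And.left)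
  -- the values of `β`
  have hβ1 : ∀ r < 12, ∃ c : F, c ≠ 0 ∧ ∀ t : F, β (X r t) = X (fl r) (c * (τ t) ^ la r) := by
    intro r hr
    refine ⟨u ^ H689.Ccp.ca (fl r) * v ^ H689.Ccp.cb (fl r), mul_ne_zero (zpow_ne_zero _ hu) (zpow_ne_zero _ hv),
      fun t => ?_⟩
    rw [hβ, MulAut.mul_apply, psi_X τ hr, MulAut.conj_apply, H_conj hu hv (fl_tab r hr).1, mul_assoc]
  have hβ2 : ∀ r < 12, ∀ t : F, ∃ t' : F, β (X r t') = X (fl r) t := by
    intro r hr t
    obtain ⟨c, hc, h⟩ := hβ1 r hr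
    obtain ⟨s, hs⟩ := root_la r hr (c⁻¹ * t)
    exact ⟨τ.symm s, by rw [h, RingEquiv.apply_symm_apply, hs, mul_inv_cancel_left₀ hc]⟩
  -- `k`
  have hk0 : ∀ i : Fin 2, (∀ g ∈ H70.ChevFix.XX chevG2 F (chevG2.simple i),
      k * g * k⁻¹ ∈ H70.ChevFix.XX chevG2 F (chevG2.neg (chevG2.simple i))) ∧
      (∀ g ∈ H70.ChevFix.XX chevG2 F (chevG2.neg (chevG2.simple i)),
        k⁻¹ * g * k ∈ H70.ChevFix.XX chevG2 F (chevG2.simple i)) ∧
      (∀ g ∈ H70.ChevFix.XX chevG2 F (chevG2.neg (chevG2.simple i)),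
        k * g * k⁻¹ ∈ H70.ChevFix.XX chevG2 F (chevG2.simple i)) ∧
      (∀ g ∈ H70.ChevFix.XX chevG2 F (chevG2.simple i),
        k⁻¹ * g * k ∈ H70.ChevFix.XX chevG2 F (chevG2.neg (chevG2.simple i))) := by
    intro i
    have hr := isRoot_sr cs hp.isCartan i
    have hw1 : rep cs hp.isCartan w⁻¹ (-sr i) = sr i := by
      rw [← hrep i, ← rep_mul_apply, inv_mul_cancel, map_one]
      rfl
    have hw2 : rep cs hp.isCartan w⁻¹ (sr i) = -sr i := by
      rw [← neg_neg (sr i), map_neg, hw1, neg_neg]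
    refine ⟨fun g hg => ?_, fun g hg => ?_, fun g hg => ?_, fun g hg => ?_⟩
    · rw [← XX_sr] at hg
      have := (rg F 3).conj_mem hk hr hg
      rwa [hrep, XX_neg_sr] at this
    · rw [← XX_neg_sr] at hg
      have := (rg F 3).conj_mem' hk hr.neg hg
      rwa [hw1, XX_sr] at this
    · rw [← XX_neg_sr] at hg
      have := (rg F 3).conj_mem hk hr.neg hg
      rwa [map_neg, hrep, neg_neg, XX_sr] at this
    · rw [← XX_sr] at hg
      have := (rg F 3).conj_mem' hk hr hg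
      rwa [hw2, XX_neg_sr] at this
  have hkm : Mv k 7 4 ∧ Mv k 6 5 ∧ Mv k 4 7 ∧ Mv k 5 6 := by
    obtain ⟨a1, a2, a3, a4⟩ := hk0 0
    obtain ⟨b1, b2, b3, b4⟩ := hk0 1
    have e0 : chevG2.simple ((0 : Fin 2) : ℕ) = 7 := simple_i0
    have e1 : chevG2.simple ((1 : Fin 2) : ℕ) = 6 := simple_i1
    have n0 : chevG2.neg 7 = 4 := by decide +kernel
    have n1 : chevG2.neg 6 = 5 := by decide +kernel
    rw [e0, n0] at a1 a2 a3 a4
    rw [e1, n1] at b1 b2 b3 b4
    exact ⟨⟨fun t => (mem_XX hD).1 (a1 _ (xe_mem_XX hD 7 t)), fun t => (mem_XX hD).1 (a2 _ (xe_mem_XX hD 4 t))⟩,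
      ⟨fun t => (mem_XX hD).1 (b1 _ (xe_mem_XX hD 6 t)), fun t => (mem_XX hD).1 (b2 _ (xe_mem_XX hD 5 t))⟩,
      ⟨fun t => (mem_XX hD).1 (a3 _ (xe_mem_XX hD 4 t)), fun t => (mem_XX hD).1 (a4 _ (xe_mem_XX hD 7 t))⟩,
      ⟨fun t => (mem_XX hD).1 (b3 _ (xe_mem_XX hD 5 t)), fun t => (mem_XX hD).1 (b4 _ (xe_mem_XX hD 6 t))⟩⟩
  have hk1 : (mm F)⁻¹ * k ∈ HH chevG2 F :=
    mem_HH_of_mv (hkm.1.mul (mm_mv (F := F) (s := 7) (by norm_num)).inv) (hkm.2.1.mul (mm_mv (F := F) (s := 6)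
      (by norm_num)).inv) (hkm.2.2.1.mul (mm_mv (F := F) (s := 4) (by norm_num)).inv)
      (hkm.2.2.2.mul (mm_mv (F := F) (s := 5) (by norm_num)).inv)
  -- `β mm`
  have hβm : ∀ r < 12, Mv (β (mm F)) r (11 - r) := by
    intro r hr
    obtain ⟨f1, f2, -, -⟩ := fl_tab r hr
    obtain ⟨f3, -⟩ := fl_tab2 (fl r) f1
    have f4 : 11 - fl r < 12 := by omega
    refine ⟨fun t => ?_, fun t => ?_⟩
    · obtain ⟨t', e1⟩ := hβ2 (fl r) f1 t
      obtain ⟨t'', e2⟩ := (mm_mv (F := F) f1).1 t'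
      obtain ⟨c, -, e3⟩ := hβ1 (11 - fl r) f4
      rw [f2] at e1
      refine ⟨c * (τ t'') ^ la (11 - fl r), ?_⟩
      rw [← e1, ← map_mul, ← map_inv, ← map_mul, e2, e3, f3, f2]
    · obtain ⟨t', e1⟩ := hβ2 (11 - fl r) f4 t
      obtain ⟨t'', e2⟩ := (mm_mv (F := F) f1).2 t'
      obtain ⟨c, -, e3⟩ := hβ1 (fl r) f1
      rw [f3, f2] at e1
      refine ⟨c * (τ t'') ^ la (fl r), ?_⟩
      rw [← e1, ← map_inv, ← map_mul, ← map_mul, e2, e3, f2]
  have hm1 : (mm F)⁻¹ * β (mm F) ∈ HH chevG2 F := by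
    have key : ∀ r < 12, Mv ((mm F)⁻¹ * β (mm F)) r r := fun r hr => (hβm r hr).mul (mm_mv hr).inv
    exact mem_HH_of_mv (key 7 (by norm_num)) (key 6 (by norm_num)) (key 4 (by norm_num)) (key 5 (by norm_num))
  -- `b` lies in the torus
  have hBB : RGD.B cs hp.isCartan (KFacts.RgdChevCoord.TT chevG2 F) (KFacts.RgdChevCoord.XX chevG2 2 F) =
      BB chevG2 F := H115.borel_eq hp cs
  have hbB : b ∈ Subgroup.normalizer ((UU chevG2 F : Subgroup (GG2 F)) : Set (GG2 F)) := by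
    rw [normalizer_UU hD, ← hBB]
    exact hb
  have hg2 : k * b * β (k * b) ∈ HH chevG2 F := by
    have h3 : (MulAut.conj (k * b) * β) * (MulAut.conj (k * b) * β) = 1 := by
      rw [← e]
      have : MulAut.conj y * x * (MulAut.conj y)⁻¹ * (MulAut.conj y * x * (MulAut.conj y)⁻¹) =
        MulAut.conj y * (x * x) * (MulAut.conj y)⁻¹ := by group
      rw [this, h2, mul_one, mul_inv_cancel]
    have h4 : MulAut.conj (k * b * β (k * b)) = (β * β)⁻¹ := by
      rw [eq_inv_iff_mul_eq_one, ← h3, map_mul MulAut.conj (k * b) (β (k * b)), ← conj_apply_mul]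
      group
    have h5 : Perm chevG2 F (MulAut.conj (k * b * β (k * b))) ((σ * σ)⁻¹) := by
      rw [h4]
      exact (hP.mul hP).inv
    exact (perm_conj hD h5).2
  have hβB : ∀ g ∈ BB chevG2 F, β g ∈ BB chevG2 F := fun g hg => by
    rw [← hBB] at hg ⊢
    exact (hfix g).2 hg
  have hβH : ∀ g ∈ HH chevG2 F, β g ∈ HH chevG2 F := fun g hg => Cfsg.Agent.H542.Pi.perm_T hD hP hg
  have hbV : b ∈ Subgroup.normalizer ((VN chevG2 F : Subgroup (GG2 F)) : Set (GG2 F)) := by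
    set h1 := (mm F)⁻¹ * k with hh1
    set h3 := (mm F)⁻¹ * β (mm F) with hh3
    have ek : k = mm F * h1 := by rw [hh1]; group
    have em : β (mm F) = mm F * h3 := by rw [hh3]; group
    have eb : b = h1⁻¹ * ((mm F)⁻¹ * ((k * b * β (k * b)) * ((β b)⁻¹ * (β h1)⁻¹ * h3⁻¹)) * mm F) *
        ((mm F) * (mm F))⁻¹ := by
      have e1 : k * b * β (k * b) = mm F * h1 * b * (mm F * h3 * β h1 * β b) := by
        nth_rewrite 1 [ek]
        rw [map_mul, ek, map_mul, em]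
      rw [e1]
      group
    have hB1 : (k * b * β (k * b)) * ((β b)⁻¹ * (β h1)⁻¹ * h3⁻¹) ∈
        Subgroup.normalizer ((UU chevG2 F : Subgroup (GG2 F)) : Set (GG2 F)) := by
      rw [normalizer_UU hD]
      refine mul_mem (H689.Ccp.HH_le hg2) (mul_mem (mul_mem (inv_mem (hβB b ?_)) (inv_mem (H689.Ccp.HH_le (hβH _ hk1))))
        (inv_mem (H689.Ccp.HH_le hm1)))
      rw [← normalizer_UU hD]
      exact hbB
    have hB2 : (mm F)⁻¹ * ((k * b * β (k * b)) * ((β b)⁻¹ * (β h1)⁻¹ * h3⁻¹)) * mm F ∈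
        Subgroup.normalizer ((VN chevG2 F : Subgroup (GG2 F)) : Set (GG2 F)) := by
      have h5 : MulAut.conj (mm F)⁻¹ • Subgroup.normalizer ((UU chevG2 F : Subgroup (GG2 F)) : Set (GG2 F)) =
          Subgroup.normalizer ((VN chevG2 F : Subgroup (GG2 F)) : Set (GG2 F)) := by
        rw [smul_normalizer, ← mm_VN, ← mul_smul, ← map_mul, inv_mul_cancel, map_one, one_smul]
      have h6 := (apply_mem_smul_iff (MulAut.conj (mm F)⁻¹) _ _).2 hB1
      rw [h5, MulAut.conj_apply, inv_inv] at h6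
      exact h6
    rw [eb]
    exact mul_mem (mul_mem (inv_mem (HH_norm hk1).2) hB2) (inv_mem (HH_norm mm_sq).2)
  have hbH : b ∈ HH chevG2 F := by
    rw [← normalizer_inf hD, Subgroup.mem_inf]
    exact ⟨hbB, hbV⟩
  -- the normal form
  obtain ⟨u', v', hu', hv', ehh⟩ := exists_H (mul_mem (mul_mem hk1 hbH) (H_mem hu hv))
  have ex : MulAut.conj y * x * (MulAut.conj y)⁻¹ = MulAut.conj (mm F) * (MulAut.conj (H689.Ccp.H u' v') *
      (H689.Ccp.fld τ * H689.Ccp.gam F)) := by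
    rw [e, hβ, ← ehh, ← mul_assoc (MulAut.conj (mm F)), ← map_mul, ← mul_assoc (MulAut.conj (k * b)), ← map_mul]
    congr 2
    group
  refine ⟨y, fun r hr => ?_⟩
  obtain ⟨f1, f2, -, -⟩ := fl_tab r hr
  obtain ⟨η, hη, h7⟩ := mm_conj (F := F) f1
  refine ⟨fun t => η * (u' ^ H689.Ccp.ca (fl r) * (v' ^ H689.Ccp.cb (fl r) * (τ t) ^ la r)), fun t => ?_, fun t ht => ?_,
    fun t => ?_⟩
  · obtain ⟨s, hs⟩ := root_la r hr ((v' ^ H689.Ccp.cb (fl r))⁻¹ * ((u' ^ H689.Ccp.ca (fl r))⁻¹ * (η⁻¹ * t)))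
    refine ⟨τ.symm s, ?_⟩
    dsimp only
    rw [RingEquiv.apply_symm_apply, hs, mul_inv_cancel_left₀ (zpow_ne_zero _ hv'),
      mul_inv_cancel_left₀ (zpow_ne_zero _ hu'), mul_inv_cancel_left₀ hη]
  · exact mul_ne_zero hη (mul_ne_zero (zpow_ne_zero _ hu') (mul_ne_zero (zpow_ne_zero _ hv')
      (pow_ne_zero _ (by rwa [Ne, EmbeddingLike.map_eq_zero_iff]))))
  · rw [ex, MulAut.mul_apply, MulAut.mul_apply, psi_X τ hr, MulAut.conj_apply (H689.Ccp.H u' v'), H_conj hu' hv' f1,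
      MulAut.conj_apply, h7, (fl_tab2 r hr).2]

/-- **type-swapping automorphisms of `G₂(3^f)`** -/
theorem reach_eleven [Finite F] [CharP F 3] [IsSimpleGroup (GG2 F)] {x : MulAut (GG2 F)} (hx : Ty chevG2 F x flip2)
    (hp : (orderOf x).Prime) : Reach x 11 ⊤ := by
  have h2 : x * x = 1 := by
    have h1 := Cfsg.Agent.H542.Pi.G2P.orderOf_eq hx hp
    rw [← pow_two, ← h1, pow_orderOf_eq_one]
  obtain ⟨y, hy⟩ := exists_sw hx h2
  have h3 := Cfsg.Agent.H915.Gs.Reach.of_mul_conj ((reach_six hy).mono (by norm_num) (by norm_num : 6 ≤ 11))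
  refine h3.sub fun z _ => ?_
  exact ⟨MulAut.conj y z, trivial, by rw [MulEquiv.coe_toMonoidHom, MulAut.inv_apply_self]⟩

end Main

end Cfsg.Agent.H929.Gs.G2
end

private theorem dce_5a71874e81a3 : _root_.True := by
  try have : _root_.True := by simp only [_root_.Cfsg.Agent.H929.Gs.G2.wd.eq_1]
  try have : _root_.True := by simp only [_root_.Cfsg.Agent.H929.Gs.G2.va.eq_1]
  try have : _root_.True := by simp only [_root_.Cfsg.Agent.H929.Gs.G2.mm.eq_1]
  try have : _root_.True := by simp only [_root_.Cfsg.Agent.H929.Gs.G2.vb.eq_1]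
  try have : _root_.True := by simp only [_root_.Cfsg.Agent.H929.Gs.G2.vd.eq_1]
  try have : _root_.True := by simp only [_root_.Cfsg.Agent.H929.Gs.G2.vc.eq_1]
  try have : _root_.True := by simp only [_root_.Cfsg.Agent.H929.Gs.G2.n8.eq_1]
  try have : _root_.True := by simp only [_root_.Cfsg.Agent.H929.Gs.G2.c0.eq_1]
  try have : _root_.True := by simp only [_root_.Cfsg.Agent.H929.Gs.G2.n10.eq_1]
  exact _root_.True.intro
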